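import Cfsg.Agent.Lib.CosetEnum.Defs

/-! Generated table data. -/

set_option autoImplicit false
set_option maxRecDepth 20000

namespace Cfsg.Lib.CosetEnum.U62Pres.SubATwo

/-- Table data. -/
def tabC_0_0 : Tab :=
  (.node 8 (.node 4 (.node 2 (.node 1 (.leaf 0x40000000000000004) (.leaf 0x4000030000080000400000c000020000140000400000000002)) (.node 1 (.leaf 0x4000060000100000200001000001) (.leaf 0x4000000000080000200000c00001))) (.node 2 (.node 1 (.leaf 0x10000040000800000c0000300001000000) (.leaf 0x10000140000100000000000)) (.node 1 (.leaf 0x4000080000080000200000000001) (.leaf 0x1000024000030000200000300000400000)))) (.leaf 0x1000024000070000240000300000800001))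

/-- Table data. -/
def tabC_0 : Tab :=
  tabC_0_0

end Cfsg.Lib.CosetEnum.U62Pres.SubATwo
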