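import Cfsg.Agent.Lib.CosetEnum.Defs

/-! Generated table data. -/

set_option autoImplicit false
set_option maxRecDepth 20000

namespace Cfsg.Lib.CosetEnum.U62Pres.SubATwo

/-- Table data. -/
def tabF_0_0 : Tab :=
  (.leaf 0x1000004100000000001000002000000000000800000100000000000000000000000000001000009f00000000000800007f00000000002000008100000000002800009f0000000000000000000000000000200000a1000000000018000080000000000000000061000000000008000040000000000000000021)

/-- Table data. -/
def tabF_0 : Tab :=
  tabF_0_0

end Cfsg.Lib.CosetEnum.U62Pres.SubATwo
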